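import Groth.Agent.H24Algz.PiPoints.Colim
import Groth.Agent.H7Lim.Approx.AbsoluteMain

/-! Points of a quasi-compact scheme of finite type over `ℤ` with values in a product of rings. -/

set_option autoImplicit false
set_option linter.style.haveILetI false

universe u

open CategoryTheory CategoryTheory.Limits AlgebraicGeometry TopologicalSpace

namespace Groth.Agent.H24Algz.PiPoints

variable {ι : Type u} {A : ι → CommRingCat.{u}}

/-- A finite open cover of an affine scheme is refined by basic opens with the same index set. -/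
theorem exists_partition {R : Type u} [CommRing R] {κ : Type*} [Fintype κ]
    (U : κ → Opens (PrimeSpectrum R)) (h : ∀ x, ∃ k, x ∈ U k) :
    ∃ e : κ → R, Ideal.span (Set.range e) = ⊤ ∧ ∀ k, PrimeSpectrum.basicOpen (e k) ≤ U k := by
  classical
  let I : κ → Ideal R := fun k => PrimeSpectrum.vanishingIdeal (U k : Set (PrimeSpectrum R))ᶜ
  have htop : (⨆ k, I k) = ⊤ := by
    by_contra hne
    obtain ⟨M, hM, hle⟩ := Ideal.exists_le_maximal _ hne
    let q : PrimeSpectrum R := ⟨M, hM.isPrime⟩
    obtain ⟨k, hk⟩ := h q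
    have hq : q ∈ PrimeSpectrum.zeroLocus (I k : Set R) := le_iSup I k |>.trans hle
    rw [PrimeSpectrum.zeroLocus_vanishingIdeal_eq_closure, (U k).isOpen.isClosed_compl.closure_eq] at hq
    exact hq hk
  have h1 : (1 : R) ∈ ⨆ k, I k := htop ▸ Submodule.mem_top
  obtain ⟨μ, hμ⟩ := (Submodule.mem_iSup_finset_iff_exists_sum (s := Finset.univ) I 1).mp
    (by simpa using h1)
  refine ⟨fun k => μ k, (Ideal.eq_top_iff_one _).mpr ?_, fun k x hx => ?_⟩
  · rw [← hμ]
    exact sum_mem fun k _ => Ideal.subset_span ⟨k, rfl⟩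
  · by_contra hxU
    exact hx ((PrimeSpectrum.mem_vanishingIdeal _ _).mp (μ k).2 x hxU)

open scoped TensorProduct in
theorem pullback_condition_of_away {R S T W : Type u} [CommRing R] [CommRing S] [CommRing T] [CommRing W]
    [Algebra R S] [Algebra R T] [Algebra R W] (x y : R) [IsLocalization.Away x S] [IsLocalization.Away y T]
    [IsLocalization.Away (x * y) W] (lS : S →+* W) (lT : T →+* W)
    (hS : lS.comp (algebraMap R S) = algebraMap R W) (hT : lT.comp (algebraMap R T) = algebraMap R W)
    {X : Scheme.{u}} (a : Spec (CommRingCat.of S) ⟶ X) (b : Spec (CommRingCat.of T) ⟶ X)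
    (h : Spec.map (CommRingCat.ofHom lS) ≫ a = Spec.map (CommRingCat.ofHom lT) ≫ b) :
    pullback.fst (Spec.map (CommRingCat.ofHom (algebraMap R S))) (Spec.map (CommRingCat.ofHom (algebraMap R T))) ≫ a =
      pullback.snd _ _ ≫ b := by
  have hu : IsUnit (algebraMap R (S ⊗[R] T) (x * y)) := by
    rw [map_mul]
    refine IsUnit.mul ?_ ?_
    · rw [IsScalarTower.algebraMap_apply R S (S ⊗[R] T)]
      exact (IsLocalization.Away.algebraMap_isUnit (S := S) x).map _
    · have h1 := (IsLocalization.Away.algebraMap_isUnit (S := T) y).map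
        (Algebra.TensorProduct.includeRight : T →ₐ[R] S ⊗[R] T)
      rwa [AlgHom.commutes] at h1
  let τ : W →+* S ⊗[R] T := IsLocalization.Away.lift (x * y) hu
  have hτ : τ.comp (algebraMap R W) = algebraMap R (S ⊗[R] T) := IsLocalization.Away.lift_comp _ _
  have e1 : τ.comp lS = Algebra.TensorProduct.includeLeftRingHom := by
    refine IsLocalization.ringHom_ext (Submonoid.powers x) ?_
    rw [RingHom.comp_assoc, hS, hτ]
    rfl
  have e2 : τ.comp lT = (Algebra.TensorProduct.includeRight : T →ₐ[R] S ⊗[R] T).toRingHom := by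
    refine IsLocalization.ringHom_ext (Submonoid.powers y) ?_
    rw [RingHom.comp_assoc, hT, hτ]
    exact (Algebra.TensorProduct.includeRight : T →ₐ[R] S ⊗[R] T).comp_algebraMap.symm
  rw [← cancel_epi (pullbackSpecIso R S T).inv, pullbackSpecIso_inv_fst_assoc, pullbackSpecIso_inv_snd_assoc]
  have h0 := congrArg (fun φ => Spec.map (CommRingCat.ofHom τ) ≫ φ) h
  simp only [← Category.assoc, ← Spec.map_comp, ← CommRingCat.ofHom_comp, e1, e2] at h0
  exact h0

theorem surjective_of_finiteType {X : Scheme.{u}} [CompactSpace X]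
    [LocallyOfFiniteType (IsTerminal.from specULiftZIsTerminal X)]
    (f : ∀ i, Spec (A i) ⟶ X) : ∃ g : Spec (CommRingCat.of (∀ i, A i)) ⟶ X, ∀ i, pr A i ≫ g = f i := by
  classical
  haveI : QuasiSeparatedSpace X := H7Lim.Approx.quasiSeparatedSpace_of_toZ X
  haveI : IsLocallyNoetherian (Spec (CommRingCat.of (ULift.{u} ℤ))) :=
    haveI : IsNoetherianRing (CommRingCat.of (ULift.{u} ℤ)) :=
      isNoetherianRing_of_ringEquiv ℤ ULift.ringEquiv.symm
    inferInstance
  haveI : LocallyOfFinitePresentation (IsTerminal.from specULiftZIsTerminal X) :=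
    LocallyOfFinitePresentation.iff_locallyOfFiniteType.mpr inferInstance
  let 𝒱 := X.affineCover.finiteSubcover
  haveI : Fintype 𝒱.I₀ := Fintype.ofFinite _
  haveI : ∀ k, IsAffine (𝒱.X k) := fun k => inferInstanceAs (IsAffine (X.affineCover.X _))
  have hcov : ∀ i, ∀ x : Spec (A i), ∃ k, x ∈ f i ⁻¹ᵁ (𝒱.f k).opensRange := fun i x =>
    ⟨𝒱.idx (f i x), 𝒱.covers (f i x)⟩
  choose e he hle using fun i => exists_partition (R := A i) (fun k => f i ⁻¹ᵁ (𝒱.f k).opensRange) (hcov i)
  let E : 𝒱.I₀ → ∀ i, A i := fun k i => e i k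
  -- the chartwise maps
  have hfac : ∀ k i, ∃ g : Spec (CommRingCat.of (Localization.Away (E k i))) ⟶ 𝒱.X k,
      g ≫ 𝒱.f k = Spec.map (CommRingCat.ofHom (algebraMap (A i) (Localization.Away (E k i)))) ≫ f i := by
    intro k i
    refine ⟨IsOpenImmersion.lift (𝒱.f k) _ ?_, IsOpenImmersion.lift_fac _ _ _⟩
    rintro _ ⟨q, rfl⟩
    have hq : Spec.map (CommRingCat.ofHom (algebraMap (A i) (Localization.Away (E k i)))) q ∈
        PrimeSpectrum.basicOpen (e i k) := by
      have h1 : Spec.map (CommRingCat.ofHom (algebraMap (A i) (Localization.Away (E k i)))) q ∈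
          Set.range (PrimeSpectrum.comap (algebraMap (A i) (Localization.Away (E k i)))) := ⟨q, rfl⟩
      rw [PrimeSpectrum.localization_away_comap_range (Localization.Away (E k i)) (E k i)] at h1
      exact h1
    exact hle i k hq
  choose g hg using hfac
  choose ψ hψ using fun k i => Spec.map_surjective (g k i ≫ (𝒱.X k).isoSpec.hom)
  let G : ∀ k, Spec (CommRingCat.of (P (E k))) ⟶ X := fun k =>
    Spec.map (CommRingCat.ofHom (RingHom.pi fun i => (ψ k i).hom)) ≫ (𝒱.X k).isoSpec.inv ≫ 𝒱.f k
  have hG : ∀ k i, Spec.map (CommRingCat.ofHom (Pi.evalRingHom (fun j => Localization.Away (E k j)) i)) ≫ G k =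
      Spec.map (CommRingCat.ofHom (algebraMap (A i) (Localization.Away (E k i)))) ≫ f i := by
    intro k i
    rw [← hg k i, ← Category.assoc, ← Spec.map_comp]
    have : CommRingCat.ofHom (RingHom.pi fun j => (ψ k j).hom) ≫
        CommRingCat.ofHom (Pi.evalRingHom (fun j => Localization.Away (E k j)) i) = ψ k i := rfl
    rw [this, hψ k i, Category.assoc, Iso.hom_inv_id_assoc]
  choose N h hh using fun k => exists_stage (X := X) (E k) (G k)
  let L : ι → ℕ := ∑ k, N k
  have hNL : ∀ k, N k ≤ L := fun k =>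
    Finset.single_le_sum (f := N) (fun j _ => fun i => Nat.zero_le _) (Finset.mem_univ k)
  let hL : ∀ k M, L ≤ M → (Spec (CommRingCat.of (Q (E k) M)) ⟶ X) := fun k M hM =>
    Spec.map (CommRingCat.ofHom (trans (E k) ((hNL k).trans hM))) ≫ h k
  -- on a single factor the chartwise maps are the given maps
  have key : ∀ k M (hM : L ≤ M) i (R : Type u) [CommRing R] (ρ : A i →+* R) (hρ : IsUnit (ρ (E k i)))
      (χ : Q (E k) M →+* R), χ.comp (algebraMap (∀ i, A i) (Q (E k) M)) =
        ρ.comp (Pi.evalRingHom (fun j => (A j : Type u)) i) →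
      Spec.map (CommRingCat.ofHom χ) ≫ hL k M hM = Spec.map (CommRingCat.ofHom ρ) ≫ f i := by
    intro k M hM i R _ ρ hρ χ hχ
    let μ : Localization.Away (E k i) →+* R := IsLocalization.Away.lift (E k i) hρ
    have hμ : μ.comp (algebraMap (A i) (Localization.Away (E k i))) = ρ := IsLocalization.Away.lift_comp _ _
    have hχ' : μ.comp ((Pi.evalRingHom (fun j => Localization.Away (E k j)) i).comp (qP (E k) M)) = χ := by
      refine Q_hom_ext (E k) ?_
      rw [RingHom.comp_assoc, RingHom.comp_assoc, qP_comp, hχ, ← hμ]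
      rfl
    have hq : Spec.map (CommRingCat.ofHom (qP (E k) M)) ≫ hL k M hM = G k := by
      rw [← Category.assoc, ← Spec.map_comp, ← CommRingCat.ofHom_comp, qP_trans]
      exact hh k
    rw [← hχ', CommRingCat.ofHom_comp, CommRingCat.ofHom_comp, Spec.map_comp, Spec.map_comp, Category.assoc,
      Category.assoc, hq, hG k i, ← Category.assoc, ← Spec.map_comp, ← CommRingCat.ofHom_comp, hμ]
  -- overlaps
  have hu : ∀ k l M, IsUnit (algebraMap (∀ i, A i) (Q (E k * E l) M) (eP (E k) M)) ∧
      IsUnit (algebraMap (∀ i, A i) (Q (E k * E l) M) (eP (E l) M)) := by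
    intro k l M
    have h1 : IsUnit (algebraMap (∀ i, A i) (Q (E k * E l) M) (eP (E k * E l) M)) :=
      IsLocalization.Away.algebraMap_isUnit _
    have h2 : eP (E k * E l) M = eP (E k) M * eP (E l) M := funext fun i => mul_pow _ _ _
    have h3 := congrArg (algebraMap (∀ i, A i) (Q (E k * E l) M)) h2
    rw [map_mul] at h3
    exact IsUnit.mul_iff.mp (h3 ▸ h1)
  let lft : ∀ k l M, Q (E k) M →+* Q (E k * E l) M := fun k l M => IsLocalization.Away.lift _ (hu k l M).1
  let rgt : ∀ k l M, Q (E l) M →+* Q (E k * E l) M := fun k l M => IsLocalization.Away.lift _ (hu k l M).2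
  have hlft : ∀ k l M, (lft k l M).comp (algebraMap (∀ i, A i) (Q (E k) M)) = algebraMap _ _ := fun k l M =>
    IsLocalization.Away.lift_comp _ _
  have hrgt : ∀ k l M, (rgt k l M).comp (algebraMap (∀ i, A i) (Q (E l) M)) = algebraMap _ _ := fun k l M =>
    IsLocalization.Away.lift_comp _ _
  have hov : ∀ p : 𝒱.I₀ × 𝒱.I₀, ∃ (M : ι → ℕ) (hM : L ≤ M),
      Spec.map (CommRingCat.ofHom (trans (E p.1 * E p.2) hM)) ≫
        Spec.map (CommRingCat.ofHom (lft p.1 p.2 L)) ≫ hL p.1 L le_rfl =
      Spec.map (CommRingCat.ofHom (trans (E p.1 * E p.2) hM)) ≫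
        Spec.map (CommRingCat.ofHom (rgt p.1 p.2 L)) ≫ hL p.2 L le_rfl := by
    rintro ⟨k, l⟩
    refine exists_stage_eq (X := X) (E k * E l) _ _ (hom_ext (fun i => CommRingCat.of (Localization.Away ((E k * E l) i))) _ _ fun i => ?_)
    have hpu := IsLocalization.Away.algebraMap_isUnit (S := Localization.Away ((E k * E l) i)) ((E k * E l) i)
    rw [Pi.mul_apply, map_mul, IsUnit.mul_iff] at hpu
    simp only [pr, ← Category.assoc, ← Spec.map_comp, ← CommRingCat.ofHom_comp]
    rw [key k L le_rfl i _ _ hpu.1 _ (by rw [RingHom.comp_assoc, RingHom.comp_assoc, hlft, qP_comp]; rfl),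
      key l L le_rfl i _ _ hpu.2 _ (by rw [RingHom.comp_assoc, RingHom.comp_assoc, hrgt, qP_comp]; rfl)]
  choose M' hM' hov using hov
  let M : ι → ℕ := L + ∑ p, M' p
  have hLM : L ≤ M := le_self_add
  have hpM : ∀ p, M' p ≤ M := fun p =>
    (Finset.single_le_sum (f := M') (fun j _ => fun i => Nat.zero_le _) (Finset.mem_univ p)).trans le_add_self
  have hspan : Ideal.span (Set.range fun k => eP (E k) M) = ⊤ := by
    refine span_eq_top_of_pi _ fun i => ?_
    have h1 := Ideal.span_pow_eq_top _ (he i) (M i)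
    rw [← Set.range_comp] at h1
    exact h1
  let 𝒰 := (Scheme.affineOpenCoverOfSpanRangeEqTop (R := CommRingCat.of (∀ i, A i)) _ hspan).openCover
  have hglue : ∀ k l : 𝒱.I₀,
      pullback.fst (Spec.map (CommRingCat.ofHom (algebraMap (∀ i, A i) (Q (E k) M))))
          (Spec.map (CommRingCat.ofHom (algebraMap (∀ i, A i) (Q (E l) M)))) ≫ hL k M hLM =
        pullback.snd _ _ ≫ hL l M hLM := fun k l => by
    haveI : IsLocalization.Away (eP (E k) M * eP (E l) M) (Q (E k * E l) M) := by
      rw [show eP (E k) M * eP (E l) M = eP (E k * E l) M from funext fun i => (mul_pow _ _ _).symm]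
      infer_instance
    refine pullback_condition_of_away (eP (E k) M) (eP (E l) M) (lft k l M) (rgt k l M) (hlft k l M) (hrgt k l M) _ _ ?_
    have h0 := congrArg (fun φ => Spec.map (CommRingCat.ofHom (trans (E k * E l) (hpM (k, l)))) ≫ φ) (hov (k, l))
    have e1 : ((trans (E k * E l) (hpM (k, l))).comp (trans (E k * E l) (hM' (k, l)))).comp
        ((lft k l L).comp (trans (E k) ((hNL k).trans le_rfl))) =
        (lft k l M).comp (trans (E k) ((hNL k).trans hLM)) := by
      refine Q_hom_ext (E k) ?_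
      rw [RingHom.comp_assoc, RingHom.comp_assoc, RingHom.comp_assoc, trans_comp, hlft, trans_comp, trans_comp,
        RingHom.comp_assoc, trans_comp, hlft]
    have e2 : ((trans (E k * E l) (hpM (k, l))).comp (trans (E k * E l) (hM' (k, l)))).comp
        ((rgt k l L).comp (trans (E l) ((hNL l).trans le_rfl))) =
        (rgt k l M).comp (trans (E l) ((hNL l).trans hLM)) := by
      refine Q_hom_ext (E l) ?_
      rw [RingHom.comp_assoc, RingHom.comp_assoc, RingHom.comp_assoc, trans_comp, hrgt, trans_comp, trans_comp,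
        RingHom.comp_assoc, trans_comp, hrgt]
    simp only [hL, ← Category.assoc, ← Spec.map_comp, ← CommRingCat.ofHom_comp] at h0 ⊢
    rw [← e1, ← e2]
    exact h0
  let gl : Spec (CommRingCat.of (∀ i, A i)) ⟶ X :=
    𝒰.glueMorphisms (fun k => hL k M hLM) (fun k l => hglue k l)
  have hgl : ∀ k : 𝒱.I₀, Spec.map (CommRingCat.ofHom (algebraMap (∀ i, A i) (Q (E k) M))) ≫ gl = hL k M hLM :=
    fun k => Scheme.Cover.ι_glueMorphisms 𝒰 _ _ k
  refine ⟨gl, fun i => ?_⟩
  refine (Scheme.affineOpenCoverOfSpanRangeEqTop (R := A i) (fun k => e i k) (he i)).openCover.hom_ext _ _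
    fun (k : 𝒱.I₀) => ?_
  have hui : IsUnit (((algebraMap (A i) (Localization.Away (e i k))).comp
      (Pi.evalRingHom (fun j => (A j : Type u)) i)) (eP (E k) M)) := by
    rw [RingHom.comp_apply]
    change IsUnit (algebraMap (A i) (Localization.Away (e i k)) (e i k ^ M i))
    rw [map_pow]
    exact (IsLocalization.Away.algebraMap_isUnit (e i k)).pow _
  let χ : Q (E k) M →+* Localization.Away (e i k) := IsLocalization.Away.lift _ hui
  have hχ := IsLocalization.Away.lift_comp (S := Q (E k) M) (eP (E k) M) hui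
  change Spec.map (CommRingCat.ofHom (algebraMap (A i) (Localization.Away (e i k)))) ≫ pr A i ≫ gl =
    Spec.map (CommRingCat.ofHom (algebraMap (A i) (Localization.Away (e i k)))) ≫ f i
  have h1 : Spec.map (CommRingCat.ofHom (algebraMap (A i) (Localization.Away (e i k)))) ≫ pr A i =
      Spec.map (CommRingCat.ofHom χ) ≫ Spec.map (CommRingCat.ofHom (algebraMap (∀ i, A i) (Q (E k) M))) := by
    rw [← Spec.map_comp, ← Spec.map_comp, ← CommRingCat.ofHom_comp, ← CommRingCat.ofHom_comp, hχ]
  rw [← Category.assoc, h1, Category.assoc, hgl]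
  exact key k M hLM i _ _ (IsLocalization.Away.algebraMap_isUnit (e i k)) χ hχ

end Groth.Agent.H24Algz.PiPoints
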