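import Groth.Agent.H24Algz.PiPoints.Inject
import Mathlib.AlgebraicGeometry.AffineTransitionLimit
import Mathlib.RingTheory.Localization.Away.Basic
import Mathlib.Algebra.Category.Ring.FilteredColimits

/-! The product of localisations of a family of rings as a filtered colimit of localisations of the product. -/

set_option autoImplicit false
set_option linter.style.haveILetI false

universe u

open CategoryTheory CategoryTheory.Limits AlgebraicGeometry Opposite

namespace Groth.Agent.H24Algz.PiPoints

attribute [local instance high] Preorder.smallCategory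

variable {ι : Type u} {A : ι → CommRingCat.{u}} (e : ∀ i, A i)

/-- The product. -/
abbrev Pi' (A : ι → CommRingCat.{u}) : CommRingCat.{u} := CommRingCat.of (∀ i, A i)

/-- The element `(e_i ^ N_i)_i`. -/
abbrev eP (N : ι → ℕ) : ∀ i, A i := fun i => e i ^ N i

/-- The stage `(∏ A_i)[1/e^N]`. -/
abbrev Q (N : ι → ℕ) : Type u := Localization.Away (eP e N)

theorem isUnit_eP {N M : ι → ℕ} (h : N ≤ M) : IsUnit (algebraMap (∀ i, A i) (Q e M) (eP e N)) := by
  have hM : IsUnit (algebraMap (∀ i, A i) (Q e M) (eP e M)) := IsLocalization.Away.algebraMap_isUnit _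
  have he : eP e M = eP e N * fun i => e i ^ (M i - N i) := by
    funext i
    simp only [eP, Pi.mul_apply, ← pow_add, Nat.add_sub_cancel' (h i)]
  have he' := congrArg (algebraMap (∀ i, A i) (Q e M)) he
  rw [map_mul] at he'
  exact isUnit_of_mul_isUnit_left (he' ▸ hM)

/-- The transition maps. -/
noncomputable def trans {N M : ι → ℕ} (h : N ≤ M) : Q e N →+* Q e M :=
  IsLocalization.Away.lift (eP e N) (g := algebraMap (∀ i, A i) (Q e M)) (isUnit_eP e h)

@[simp] theorem trans_comp {N M : ι → ℕ} (h : N ≤ M) :
    (trans e h).comp (algebraMap (∀ i, A i) (Q e N)) = algebraMap (∀ i, A i) (Q e M) :=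
  IsLocalization.Away.lift_comp _ _

theorem Q_hom_ext {N : ι → ℕ} {R : Type u} [CommRing R] {f g : Q e N →+* R}
    (h : f.comp (algebraMap (∀ i, A i) (Q e N)) = g.comp (algebraMap (∀ i, A i) (Q e N))) : f = g :=
  IsLocalization.ringHom_ext (Submonoid.powers (eP e N)) h

/-- The diagram of stages. -/
noncomputable def stages : (ι → ℕ) ⥤ CommRingCat.{u} where
  obj N := CommRingCat.of (Q e N)
  map {N M} f := CommRingCat.ofHom (trans e (leOfHom f))
  map_id N := CommRingCat.hom_ext (Q_hom_ext e (by
    rw [CommRingCat.hom_ofHom, trans_comp]; rfl))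
  map_comp {N M L} f g := CommRingCat.hom_ext (Q_hom_ext e (by
    rw [CommRingCat.hom_comp, CommRingCat.hom_ofHom, CommRingCat.hom_ofHom, CommRingCat.hom_ofHom, trans_comp,
      RingHom.comp_assoc, trans_comp, trans_comp]))

/-- The product of the localisations. -/
abbrev P : Type u := ∀ i, Localization.Away (e i)

theorem isUnit_pi_of {R : ι → Type u} [∀ i, CommRing (R i)] {x : ∀ i, R i} (h : ∀ i, IsUnit (x i)) : IsUnit x :=
  IsUnit.of_mul_eq_one (fun i => ((h i).unit⁻¹ : (R i)ˣ)) (funext fun i => (h i).mul_val_inv)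

/-- The structure map of the product of localisations. -/
noncomputable def toP : (∀ i, A i) →+* P e :=
  RingHom.pi fun i => (algebraMap (A i) (Localization.Away (e i))).comp (Pi.evalRingHom (fun j => (A j : Type u)) i)

theorem toP_apply (z : ∀ i, A i) (i : ι) : toP e z i = algebraMap (A i) (Localization.Away (e i)) (z i) := rfl

theorem isUnit_toP (N : ι → ℕ) : IsUnit (toP e (eP e N)) :=
  isUnit_pi_of fun i => by
    rw [toP_apply, map_pow]
    exact (IsLocalization.Away.algebraMap_isUnit (e i)).pow _

/-- The maps from the stages. -/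
noncomputable def qP (N : ι → ℕ) : Q e N →+* P e :=
  IsLocalization.Away.lift (eP e N) (g := toP e) (isUnit_toP e N)

@[simp] theorem qP_comp (N : ι → ℕ) : (qP e N).comp (algebraMap (∀ i, A i) (Q e N)) = toP e :=
  IsLocalization.Away.lift_comp _ _

theorem qP_trans {N M : ι → ℕ} (h : N ≤ M) : (qP e M).comp (trans e h) = qP e N :=
  Q_hom_ext e (by rw [RingHom.comp_assoc, trans_comp, qP_comp, qP_comp])

/-- The cocone. -/
noncomputable def cocone : Cocone (stages e) where
  pt := CommRingCat.of (P e)
  ι :=
    { app := fun N => CommRingCat.ofHom (qP e N)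
      naturality := fun N M f => by
        refine CommRingCat.hom_ext ?_
        exact qP_trans e (leOfHom f) }

theorem exists_qP_eq (x : P e) : ∃ N, ∃ y : Q e N, qP e N y = x := by
  choose z m hm using fun i => IsLocalization.Away.surj (e i) (x i)
  refine ⟨z, IsLocalization.mk' (Q e z) m ⟨eP e z, Submonoid.mem_powers _⟩, ?_⟩
  funext i
  have h := IsLocalization.mk'_spec (Q e z) m (⟨eP e z, Submonoid.mem_powers _⟩ : Submonoid.powers (eP e z))
  have h1 := congrFun (congrArg (qP e z) h) i
  have hc : ∀ y, qP e z (algebraMap (∀ i, A i) (Q e z) y) = toP e y := fun y => RingHom.congr_fun (qP_comp e z) y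
  rw [map_mul, Pi.mul_apply, hc, hc, toP_apply, toP_apply, ← hm i, map_pow] at h1
  exact ((IsLocalization.Away.algebraMap_isUnit (e i)).pow _).mul_left_inj.mp h1

theorem exists_trans_eq_zero {N : ι → ℕ} (x : Q e N) (hx : qP e N x = 0) :
    ∃ M, ∃ h : N ≤ M, trans e h x = 0 := by
  obtain ⟨⟨z, s⟩, hzs⟩ := IsLocalization.surj (Submonoid.powers (eP e N)) x
  have hz : toP e z = 0 := by
    have h1 := congrArg (qP e N) hzs
    rw [map_mul, hx, zero_mul] at h1
    rw [← qP_comp e N]
    exact h1.symm
  have hk : ∀ i, ∃ k : ℕ, e i ^ k * z i = 0 := fun i => by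
    obtain ⟨⟨_, k, rfl⟩, hk⟩ := (IsLocalization.map_eq_zero_iff (Submonoid.powers (e i))
      (Localization.Away (e i)) (z i)).mp (congrFun hz i)
    exact ⟨k, hk⟩
  choose k hk using hk
  refine ⟨N + k, le_self_add, ?_⟩
  have hunit := IsLocalization.Away.algebraMap_isUnit (S := Q e (N + k)) (eP e (N + k))
  have h0 : algebraMap (∀ i, A i) (Q e (N + k)) z = 0 := by
    refine (hunit.mul_right_eq_zero).mp ?_
    rw [← map_mul, show eP e (N + k) * z = 0 from funext fun i => by
      simp only [eP, Pi.mul_apply, Pi.add_apply, Pi.zero_apply, pow_add, mul_assoc, hk i, mul_zero], map_zero]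
  have h1 := congrArg (trans e (le_self_add (a := N) (b := k))) hzs
  rw [map_mul, ← RingHom.comp_apply, ← RingHom.comp_apply, trans_comp, h0] at h1
  refine (IsUnit.mul_left_eq_zero ?_).mp h1
  obtain ⟨_, n, rfl⟩ := s
  rw [map_pow]
  exact (isUnit_eP e le_self_add).pow _

/-- The cocone is colimiting. -/
noncomputable def isColimit : IsColimit (cocone e) :=
  haveI : IsFiltered (ι → ℕ) := isFiltered_of_semilatticeSup_nonempty _
  haveI : PreservesColimit (stages e) (forget CommRingCat.{u}) := inferInstance
  haveI : ReflectsColimit (stages e) (forget CommRingCat.{u}) := reflectsColimit_of_reflectsIsomorphisms _ _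
  isColimitOfReflects (forget CommRingCat.{u}) (Types.FilteredColimit.isColimitOf _ _
    (fun x => by
      obtain ⟨N, y, hy⟩ := exists_qP_eq e x
      exact ⟨N, y, hy.symm⟩)
    (fun N M x y h => by
      change qP e N x = qP e M y at h
      obtain ⟨L, hL, hz⟩ := exists_trans_eq_zero e (N := N ⊔ M)
        (trans e le_sup_left x - trans e le_sup_right y) (by
          rw [map_sub, ← RingHom.comp_apply, ← RingHom.comp_apply, qP_trans, qP_trans, h, sub_self])
      refine ⟨L, homOfLE (le_sup_left.trans hL), homOfLE (le_sup_right.trans hL), ?_⟩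
      rw [map_sub, sub_eq_zero] at hz
      have ht : ∀ (K : ι → ℕ) (h₁ : K ≤ N ⊔ M), (trans e hL).comp (trans e h₁) = trans e (h₁.trans hL) :=
        fun K h₁ => Q_hom_ext e (by rw [RingHom.comp_assoc, trans_comp, trans_comp, trans_comp])
      exact (RingHom.congr_fun (ht N le_sup_left) x).symm.trans (hz.trans (RingHom.congr_fun (ht M le_sup_right) y))))

/-- The affine schemes of the stages. -/
noncomputable def specStages : (ι → ℕ)ᵒᵖ ⥤ Scheme.{u} := (stages e).op ⋙ Scheme.Spec

/-- `Spec` of the product of localisations as a cone. -/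
noncomputable def specCone : Cone (specStages e) := Scheme.Spec.mapCone (cocone e).op

/-- It is a limit cone. -/
noncomputable def isLimit : IsLimit (specCone e) := isLimitOfPreserves Scheme.Spec (isColimit e).op

instance (N : (ι → ℕ)ᵒᵖ) : IsAffine ((specStages e).obj N) :=
  inferInstanceAs (IsAffine (Spec (CommRingCat.of (Q e N.unop))))

instance {N M : (ι → ℕ)ᵒᵖ} (f : N ⟶ M) : IsAffineHom ((specStages e).map f) :=
  isAffineHom_of_isAffine _

/-- Morphisms to a scheme locally of finite type over `ℤ` descend to a stage. -/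
theorem exists_stage {X : Scheme.{u}} [LocallyOfFinitePresentation (IsTerminal.from specULiftZIsTerminal X)]
    (a : Spec (CommRingCat.of (P e)) ⟶ X) :
    ∃ (N : ι → ℕ) (g : Spec (CommRingCat.of (Q e N)) ⟶ X), Spec.map (CommRingCat.ofHom (qP e N)) ≫ g = a := by
  let t : specStages e ⟶ (Functor.const _).obj (Spec (CommRingCat.of (ULift.{u} ℤ))) :=
    { app := fun j => IsTerminal.from specULiftZIsTerminal _
      naturality := fun _ _ _ => specULiftZIsTerminal.hom_ext _ _ }
  haveI : ∀ j, CompactSpace ((specStages e).obj j) := fun j => inferInstance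
  haveI : ∀ j, QuasiSeparatedSpace ((specStages e).obj j) := fun j => inferInstance
  obtain ⟨N, g, hg, -⟩ := Scheme.exists_π_app_comp_eq_of_locallyOfFinitePresentation (specStages e) t
    (IsTerminal.from specULiftZIsTerminal X) (specCone e) (isLimit e) a
    (by ext j; exact specULiftZIsTerminal.hom_ext _ _)
  exact ⟨N.unop, g, hg⟩

/-- Morphisms from a stage agreeing on the limit agree at a later stage. -/
theorem exists_stage_eq {X : Scheme.{u}} [LocallyOfFiniteType (IsTerminal.from specULiftZIsTerminal X)]
    {N : ι → ℕ} (a b : Spec (CommRingCat.of (Q e N)) ⟶ X)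
    (hab : Spec.map (CommRingCat.ofHom (qP e N)) ≫ a = Spec.map (CommRingCat.ofHom (qP e N)) ≫ b) :
    ∃ (M : ι → ℕ) (h : N ≤ M),
      Spec.map (CommRingCat.ofHom (trans e h)) ≫ a = Spec.map (CommRingCat.ofHom (trans e h)) ≫ b := by
  let t : specStages e ⟶ (Functor.const _).obj (Spec (CommRingCat.of (ULift.{u} ℤ))) :=
    { app := fun j => IsTerminal.from specULiftZIsTerminal _
      naturality := fun _ _ _ => specULiftZIsTerminal.hom_ext _ _ }
  haveI : ∀ j, CompactSpace ((specStages e).obj j) := fun j => inferInstance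
  obtain ⟨M, f, hf⟩ := Scheme.exists_hom_comp_eq_comp_of_locallyOfFiniteType (specStages e) t
    (IsTerminal.from specULiftZIsTerminal X) (specCone e) (isLimit e) (i := op N) a b
    (specULiftZIsTerminal.hom_ext _ _) (specULiftZIsTerminal.hom_ext _ _) hab
  exact ⟨M.unop, leOfHom f.unop, hf⟩

end Groth.Agent.H24Algz.PiPoints
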