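import Mathlib.AlgebraicGeometry.Morphisms.QuasiSeparated
import Mathlib.AlgebraicGeometry.Morphisms.Immersion
import Mathlib.AlgebraicGeometry.Morphisms.ClosedImmersion
import Mathlib.Algebra.Ring.Pi

/-! Points of a quasi-separated scheme with values in a product of rings are determined by their components. -/

set_option autoImplicit false
set_option linter.style.haveILetI false

universe u

open CategoryTheory CategoryTheory.Limits AlgebraicGeometry TopologicalSpace

namespace Groth.Agent.H24Algz.PiPoints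

variable {ι : Type u} (A : ι → CommRingCat.{u})

/-- `Spec (A i) ⟶ Spec (∏ A)`. -/
noncomputable abbrev pr (i : ι) : Spec (A i) ⟶ Spec (CommRingCat.of (∀ i, A i)) :=
  Spec.map (CommRingCat.ofHom (Pi.evalRingHom (fun j => (A j : Type u)) i))

/-- A finite family of elements of a product generating the unit ideal in each factor generates it. -/
theorem span_eq_top_of_pi {R : ι → Type u} [∀ i, CommRing (R i)] {κ : Type*} [Fintype κ] (a : κ → ∀ i, R i)
    (h : ∀ i, Ideal.span (Set.range fun k => a k i) = ⊤) : Ideal.span (Set.range a) = ⊤ := by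
  have hc : ∀ i, ∃ c : κ → R i, ∑ k, c k * a k i = 1 := fun i =>
    Ideal.mem_span_range_iff_exists_fun.mp ((Ideal.eq_top_iff_one _).mp (h i))
  choose c hc using hc
  refine (Ideal.eq_top_iff_one _).mpr (Ideal.mem_span_range_iff_exists_fun.mpr ⟨fun k i => c i k, ?_⟩)
  funext i
  simpa [Finset.sum_apply] using hc i

theorem isIso_of_factors {Z : Scheme.{u}} (g : Z ⟶ Spec (CommRingCat.of (∀ i, A i))) [IsImmersion g]
    [QuasiCompact g] (s : ∀ i, Spec (A i) ⟶ Z) (hs : ∀ i, s i ≫ g = pr A i) : IsIso g := by
  classical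
  haveI : CompactSpace Z := by
    have := QuasiCompact.isCompact_preimage (f := g) Set.univ isOpen_univ isCompact_univ
    rw [Set.preimage_univ] at this
    exact isCompact_univ_iff.mp this
  have hcomp : IsCompact (Set.range g) := isCompact_range g.continuous
  let C : Set (PrimeSpectrum (∀ i, A i)) := (g.coborderRange : Set (Spec (CommRingCat.of (∀ i, A i))))
  have hC : IsOpen C := g.coborderRange.2
  obtain ⟨t, ht⟩ := hcomp.elim_finite_subcover
    (fun a : {a : ∀ i, A i //
      (PrimeSpectrum.basicOpen a : Set (PrimeSpectrum (∀ i, A i))) ⊆ C} =>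
        (PrimeSpectrum.basicOpen a.1 : Set (PrimeSpectrum (∀ i, A i))))
    (fun a => (PrimeSpectrum.basicOpen a.1).2) (fun x hx => by
      obtain ⟨_, ⟨a, rfl⟩, hxa, hle⟩ := PrimeSpectrum.isTopologicalBasis_basic_opens.exists_subset_of_mem_open
        (show x ∈ C from subset_coborder hx) hC
      exact Set.mem_iUnion.mpr ⟨⟨a, hle⟩, hxa⟩)
  have hspan : Ideal.span (Set.range fun a : t => a.1.1) = ⊤ := by
    refine span_eq_top_of_pi _ fun i => ?_
    by_contra hne
    obtain ⟨M, hM, hle⟩ := Ideal.exists_le_maximal _ hne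
    let q : PrimeSpectrum (A i) := ⟨M, hM.isPrime⟩
    have hq : pr A i q ∈ Set.range g := ⟨s i q, by rw [← hs i]; rfl⟩
    obtain ⟨a, ha⟩ := Set.mem_iUnion.mp (ht hq)
    obtain ⟨hat, haq⟩ := Set.mem_iUnion.mp ha
    exact haq (hle (Ideal.subset_span ⟨⟨a, hat⟩, rfl⟩))
  have htop : g.coborderRange = ⊤ := by
    refine eq_top_iff.mpr fun x _ => ?_
    have hx : ∃ a : t, a.1.1 ∉ (x : PrimeSpectrum (∀ i, A i)).asIdeal := by
      by_contra! hcon
      exact (x : PrimeSpectrum (∀ i, A i)).2.ne_top (eq_top_iff.mpr (hspan ▸ Ideal.span_le.mpr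
        (by rintro _ ⟨a, rfl⟩; exact hcon a)))
    obtain ⟨a, ha⟩ := hx
    exact a.1.2 ha
  haveI : IsClosedImmersion g := by
    haveI : IsIso g.coborderRange.ι := by
      rw [htop]
      exact inferInstanceAs (IsIso (Scheme.topIso _).hom)
    rw [← g.liftCoborder_ι]
    infer_instance
  obtain ⟨I, e, he⟩ := IsClosedImmersion.Spec_iff.mp ‹IsClosedImmersion g›
  have hI : I = ⊥ := by
    refine eq_bot_iff.mpr fun a ha => Ideal.mem_bot.mpr (funext fun i => ?_)
    obtain ⟨φ, hφ⟩ := Spec.map_surjective (s i ≫ e.hom)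
    have h1 : CommRingCat.ofHom (Ideal.Quotient.mk I) ≫ φ =
        CommRingCat.ofHom (Pi.evalRingHom (fun j => (A j : Type u)) i) := by
      apply Spec.map_injective
      rw [Spec.map_comp, hφ, Category.assoc, ← he, hs i]
    have h2 := congrArg (fun f => f.hom a) h1
    refine h2.symm.trans ?_
    change φ.hom (Ideal.Quotient.mk I a) = 0
    rw [Ideal.Quotient.eq_zero_iff_mem.mpr ha, map_zero]
  subst hI
  have hb : IsIso (CommRingCat.ofHom (Ideal.Quotient.mk (⊥ : Ideal (∀ i, A i)))) :=
    (ConcreteCategory.isIso_iff_bijective _).mpr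
      ⟨(injective_iff_map_eq_zero _).mpr fun a ha => Ideal.mem_bot.mp (Ideal.Quotient.eq_zero_iff_mem.mp ha),
        Ideal.Quotient.mk_surjective⟩
  rw [he]
  infer_instance

theorem hom_ext {X : Scheme.{u}} [QuasiSeparatedSpace X]
    (f g : Spec (CommRingCat.of (∀ i, A i)) ⟶ X) (h : ∀ i, pr A i ≫ f = pr A i ≫ g) : f = g := by
  let t := terminal.from X
  haveI : QuasiSeparated t := (quasiSeparatedSpace_iff_quasiSeparated X).mp inferInstance
  let l := pullback.lift (f := t) (g := t) f g (terminal.hom_ext _ _)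
  have hfac : ∀ i, (pr A i ≫ f) ≫ pullback.diagonal t = pr A i ≫ l := fun i => by
    refine pullback.hom_ext ?_ ?_
    · rw [Category.assoc, pullback.diagonal_fst, Category.comp_id, Category.assoc, pullback.lift_fst]
    · rw [Category.assoc, pullback.diagonal_snd, Category.comp_id, Category.assoc, pullback.lift_snd, h i]
  haveI : IsIso (pullback.snd (pullback.diagonal t) l) :=
    isIso_of_factors A _ (fun i => pullback.lift (pr A i ≫ f) (pr A i) (hfac i)) fun i => pullback.lift_snd _ _ _
  have e := pullback.condition (f := pullback.diagonal t) (g := l)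
  have e1 := congrArg (fun z => z ≫ pullback.fst t t) e
  have e2 := congrArg (fun z => z ≫ pullback.snd t t) e
  simp only [Category.assoc, pullback.diagonal_fst, pullback.diagonal_snd, Category.comp_id, l, pullback.lift_fst,
    pullback.lift_snd] at e1 e2
  exact (cancel_epi (pullback.snd (pullback.diagonal t) l)).mp (e1.symm.trans e2)

end Groth.Agent.H24Algz.PiPoints
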